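import Groth.Agent.GeomLocLib.Fibres
import Groth.Agent.RatliffLib.EssFinite
import Groth.Agent.EtLocalLib.Completion

/-!
# Passing to completions
-/

set_option autoImplicit false
set_option backward.isDefEq.respectTransparency false
set_option maxHeartbeats 1000000
universe u

open IsLocalRing TensorProduct

namespace Groth.Agent.GeomLocLib

/-- The completion of a flat local map. -/
theorem exists_completion_algebra (A B : Type u) [CommRing A] [IsLocalRing A] [IsNoetherianRing A] [CommRing B]
    [IsLocalRing B] [IsNoetherianRing B] [Algebra A B] [IsLocalHom (algebraMap A B)] [Module.Flat A B]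
    [Module.Finite (ResidueField A) (ResidueField B)] :
    ∃ (alg : Algebra (AdicCompletion (maximalIdeal A) A) (AdicCompletion (maximalIdeal B) B)),
      letI := alg
      IsScalarTower A (AdicCompletion (maximalIdeal A) A) (AdicCompletion (maximalIdeal B) B) ∧
      IsLocalHom (algebraMap (AdicCompletion (maximalIdeal A) A) (AdicCompletion (maximalIdeal B) B)) ∧
      Module.Flat (AdicCompletion (maximalIdeal A) A) (AdicCompletion (maximalIdeal B) B) ∧
      Module.Finite (AdicCompletion (maximalIdeal A) A) (ResidueField (AdicCompletion (maximalIdeal B) B)) := by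
  obtain ⟨_, _, _, _, hmax⟩ := RatliffLib.compl_facts A
  obtain ⟨_, _, _, _, hmax'⟩ := RatliffLib.compl_facts B
  let Ah := AdicCompletion (maximalIdeal A) A
  let Bh := AdicCompletion (maximalIdeal B) B
  have hle : (maximalIdeal A).map (algebraMap A B) ≤ maximalIdeal B :=
    ((local_hom_TFAE (algebraMap A B)).out 0 2 rfl rfl).mp inferInstance
  letI : Algebra Ah Bh := (CMCat.complHom (algebraMap A B) (maximalIdeal A) (maximalIdeal B) hle).toAlgebra
  haveI : IsScalarTower A Ah Bh := IsScalarTower.of_algebraMap_eq fun r => by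
    rw [RingHom.algebraMap_toAlgebra, CMCat.complHom_algebraMap, ← IsScalarTower.algebraMap_apply A B Bh]
  haveI : IsLocalHom (algebraMap Ah Bh) := EtLocalLib.isLocalHom_completion
  haveI : Module.Flat B Bh := AdicCompletion.flat_of_isNoetherian _
  haveI : Module.Flat A Bh := Module.Flat.trans A B Bh
  have hmB : (maximalIdeal A).map (algebraMap A Bh) ≤ maximalIdeal Bh := by
    rw [IsScalarTower.algebraMap_eq A B Bh, ← Ideal.map_map, hmax']
    exact Ideal.map_mono hle
  haveI : Module.Flat Ah Bh := RatliffLib.flat_over_completion (by rwa [IsLocalRing.jacobson_eq_maximalIdeal ⊥ bot_ne_top])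
  refine ⟨inferInstance, inferInstance, inferInstance, inferInstance, ?_⟩
  haveI := finite_residueField A B
  have hsurj : Function.Surjective (algebraMap B (ResidueField Bh)) := fun z => by
    obtain ⟨x, hx⟩ := EtLocalLib.bijective_residueField_completion.2 z
    obtain ⟨b, rfl⟩ := residue_surjective x
    exact ⟨b, by rw [← hx, ResidueField.map_residue, IsScalarTower.algebraMap_apply B Bh (ResidueField Bh)]; rfl⟩
  haveI : Module.Finite A (ResidueField Bh) := by
    refine Module.Finite.of_surjective (M := ResidueField B)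
      (Ideal.Quotient.liftₐ (maximalIdeal B) (IsScalarTower.toAlgHom A B (ResidueField Bh)) fun x hx => ?_).toLinearMap
      fun z => ?_
    · show algebraMap B (ResidueField Bh) x = 0
      rw [IsScalarTower.algebraMap_apply B Bh (ResidueField Bh), ResidueField.algebraMap_eq, residue_eq_zero_iff, hmax']
      exact Ideal.mem_map_of_mem _ hx
    · obtain ⟨b, rfl⟩ := hsurj z
      exact ⟨residue B b, rfl⟩
  exact Module.Finite.of_restrictScalars_finite A Ah _

/-- A geometric property of the closed fibre passes to the completion of the base. -/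
theorem closedGeom_completion {P : ∀ (R : Type u) [CommRing R], Prop} (hP : GoodProp P) (A C : Type u) [CommRing A]
    [IsLocalRing A] [IsNoetherianRing A] [CommRing C] [Algebra A C] [Algebra (AdicCompletion (maximalIdeal A) A) C]
    [IsScalarTower A (AdicCompletion (maximalIdeal A) A) C] (h : ClosedGeom P A C) :
    ClosedGeom P (AdicCompletion (maximalIdeal A) A) C := by
  obtain ⟨_, _, _, _, hmax⟩ := RatliffLib.compl_facts A
  let Ah := AdicCompletion (maximalIdeal A) A
  intro k' _ _ hfin
  haveI := hfin
  letI : Algebra A k' := ((algebraMap Ah k').comp (algebraMap A Ah)).toAlgebra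
  haveI : IsScalarTower A Ah k' := IsScalarTower.of_algebraMap_eq fun _ => rfl
  have hker : RingHom.ker (algebraMap Ah k') = maximalIdeal Ah := by
    haveI : Algebra.IsIntegral Ah k' := Algebra.IsIntegral.of_finite Ah k'
    haveI : (⊥ : Ideal k').IsMaximal := Ideal.bot_isMaximal
    have h1 : ((⊥ : Ideal k').comap (algebraMap Ah k')).IsMaximal :=
      Ideal.isMaximal_comap_of_isIntegral_of_isMaximal ⊥
    rw [← RingHom.ker_eq_comap_bot] at h1
    exact IsLocalRing.eq_maximalIdeal h1
  have happrox : ∀ a : Ah, ∃ a₀ : A, a - algebraMap A Ah a₀ ∈ maximalIdeal Ah := fun a => by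
    obtain ⟨x, hx⟩ := EtLocalLib.bijective_residueField_completion.2 (residue Ah a)
    obtain ⟨a₀, rfl⟩ := residue_surjective x
    refine ⟨a₀, ?_⟩
    rw [ResidueField.map_residue] at hx
    exact Ideal.Quotient.eq.1 hx.symm
  haveI : Module.Finite A k' := by
    haveI : Module.Finite A (ResidueField Ah) := Module.Finite.of_surjective (Algebra.linearMap A (ResidueField Ah))
      fun z => by
        obtain ⟨a, rfl⟩ := residue_surjective z
        obtain ⟨a₀, ha⟩ := happrox a
        exact ⟨a₀, (Ideal.Quotient.eq.2 ha).symm⟩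
    letI : Algebra (ResidueField Ah) k' := (Ideal.Quotient.lift (maximalIdeal Ah) (algebraMap Ah k')
      (fun a ha => RingHom.mem_ker.1 (hker.ge ha))).toAlgebra
    haveI : IsScalarTower Ah (ResidueField Ah) k' := IsScalarTower.of_algebraMap_eq fun _ => rfl
    haveI : IsScalarTower A (ResidueField Ah) k' := IsScalarTower.of_algebraMap_eq fun _ => rfl
    haveI : Module.Finite (ResidueField Ah) k' := Module.Finite.of_restrictScalars_finite Ah _ _
    exact Module.Finite.trans (ResidueField Ah) k'
  haveI : TensorProduct.CompatibleSMul A Ah k' C := ⟨fun a x y => by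
    obtain ⟨a₀, ha⟩ := happrox a
    have key : ∀ z ∈ maximalIdeal Ah, ∀ w : C, x ⊗ₜ[A] (z • w) = 0 := fun z hz => by
      rw [hmax] at hz
      refine Submodule.span_induction (p := fun z _ => ∀ w : C, x ⊗ₜ[A] (z • w) = 0) ?_ (by simp) ?_ ?_ hz
      · rintro _ ⟨r, hr, rfl⟩ w
        have h0 : algebraMap A k' r = 0 := RingHom.mem_ker.1 (hker.ge (hmax ▸ Ideal.mem_map_of_mem _ hr))
        rw [algebraMap_smul, ← TensorProduct.smul_tmul, Algebra.smul_def, h0, zero_mul, TensorProduct.zero_tmul]
      · intro u v _ _ hu hv w
        rw [add_smul, TensorProduct.tmul_add, hu w, hv w, add_zero]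
      · intro c u _ hu0 w
        rw [smul_eq_mul, mul_comm, mul_smul]
        exact hu0 (c • w)
    have h0 : algebraMap Ah k' (a - algebraMap A Ah a₀) = 0 := RingHom.mem_ker.1 (hker.ge ha)
    have h1 : a • x = a₀ • x := by
      rw [← sub_eq_zero, ← algebraMap_smul Ah a₀ x, ← sub_smul, Algebra.smul_def, h0, zero_mul]
    have h2 : x ⊗ₜ[A] (a • y) = x ⊗ₜ[A] (a₀ • y) := by
      rw [← sub_eq_zero, ← TensorProduct.tmul_sub, ← algebraMap_smul Ah a₀ y, ← sub_smul]
      exact key _ ha y
    rw [h1, h2, TensorProduct.smul_tmul]⟩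
  haveI : TensorProduct.CompatibleSMul Ah A k' C := inferInstance
  exact allLoc_of_ringEquiv hP (Algebra.TensorProduct.equivOfCompatibleSMul A Ah A k' C).toRingEquiv.symm (h k' inferInstance)

end Groth.Agent.GeomLocLib
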