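import Groth.Agent.GeomLocLib.Props
import Groth.Agent.GeomLocLib.Completion
import Groth.Agent.GeomRedFib.Basic

/-!
# Regular, normal and reduced fibres
-/

set_option autoImplicit false
set_option backward.isDefEq.respectTransparency false
set_option maxHeartbeats 1000000
universe u

open IsLocalRing TensorProduct

namespace Groth.Agent.GeomLocLib

theorem isNoetherianRing_field_fiber (A B : Type u) [CommRing A] [CommRing B] [IsNoetherianRing B] [Algebra A B]
    (p : Ideal A) [p.IsPrime] (K : Type u) [Field K] [Algebra p.ResidueField K] [Module.Finite p.ResidueField K] :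
    IsNoetherianRing (K ⊗[p.ResidueField] p.Fiber B) := by
  haveI := FlatDepth.isNoetherianRing_fiber A B p
  exact RegDesc.isNoetherianRing_tensor_essFiniteType p.ResidueField K (p.Fiber B)

section

variable (A B : Type u) [CommRing A] [IsLocalRing A] [CommRing B] [Algebra A B]

theorem closedGeom_regular
    (h : CAlg.IsGeometricallyRegular (maximalIdeal A).ResidueField ((maximalIdeal A).Fiber B)) :
    ClosedGeom (fun R [CommRing R] => IsRegularLocalRing R) A B :=
  closedGeom_of_fibre goodProp_regular A B fun k' _ _ hfin Q _ =>
    @IsRegularRing.isRegularLocalRing_localization _ _ (h k' hfin) Q inferInstance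

theorem closedGeom_normal
    (h : EGA4.IsGeomNormal (maximalIdeal A).ResidueField ((maximalIdeal A).Fiber B)) :
    ClosedGeom (fun R [CommRing R] => IsDomain R ∧ IsIntegrallyClosed R) A B :=
  closedGeom_of_fibre goodProp_normal A B fun k' _ _ hfin Q _ => h k' hfin Q

theorem closedGeom_reduced
    (h : Algebra.IsGeometricallyReduced (maximalIdeal A).ResidueField ((maximalIdeal A).Fiber B)) :
    ClosedGeom (fun R [CommRing R] => IsReduced R) A B :=
  closedGeom_of_fibre goodProp_reduced A B fun k' _ _ _ Q _ => by
    haveI := h
    haveI := GeomRedFib.isReduced_field_tensor (maximalIdeal A).ResidueField ((maximalIdeal A).Fiber B) k'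
    exact (inferInstance : IsReduced (Localization.AtPrime Q))

theorem closedGeom_cm
    (h : ∀ (k' : Type u) [Field k'] [Algebra (maximalIdeal A).ResidueField k'],
      Module.Finite (maximalIdeal A).ResidueField k' →
        LocCoh.IsCohenMacaulayRing (k' ⊗[(maximalIdeal A).ResidueField] (maximalIdeal A).Fiber B)) :
    ClosedGeom (fun R [CommRing R] => LocCoh.IsCohenMacaulayLocalRing R) A B :=
  closedGeom_of_fibre goodProp_cm A B fun k' _ _ hfin Q _ =>
    (h k' hfin).isCohenMacaulayLocalRing_localization Q

end

variable (A B : Type u) [CommRing A] [IsLocalRing A] [IsNoetherianRing A]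
  [IsAdicComplete (maximalIdeal A) A] [CommRing B] [IsLocalRing B] [IsNoetherianRing B] [Algebra A B]
  [IsLocalHom (algebraMap A B)] [Module.Flat A B]

theorem isRegularHom_of_closedGeom (hres : Module.Finite A (ResidueField B))
    (hB : ClosedGeom (fun R [CommRing R] => IsRegularLocalRing R) A B) : CAlg.IsRegularHom A B := by
  refine ⟨inferInstance, fun p _ => ⟨FlatDepth.isNoetherianRing_fiber A B p, fun K _ _ hK => ?_⟩⟩
  haveI := hK
  haveI := isNoetherianRing_field_fiber A B p K
  exact isRegularRing_iff.2 fun Q _ => allLoc_fibre goodProp_regular A B hres hB p K hK Q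

theorem isNormalHom_of_closedGeom (hres : Module.Finite A (ResidueField B))
    (hB : ClosedGeom (fun R [CommRing R] => IsDomain R ∧ IsIntegrallyClosed R) A B) : EGA4.IsNormalHom A B :=
  ⟨inferInstance, fun p _ K _ _ hK Q _ => allLoc_fibre goodProp_normal A B hres hB p K hK Q⟩

theorem geomReduced_of_closedGeom (hres : Module.Finite A (ResidueField B))
    (hB : ClosedGeom (fun R [CommRing R] => IsReduced R) A B) (p : Ideal A) [p.IsPrime] :
    Algebra.IsGeometricallyReduced p.ResidueField (p.Fiber B) := by
  rw [Algebra.isGeometricallyReduced_field_iff]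
  let κ := p.ResidueField
  let Ω := AlgebraicClosure κ
  suffices IsReduced (p.Fiber B ⊗[κ] Ω) from
    isReduced_of_injective (Algebra.TensorProduct.comm κ Ω (p.Fiber B)) (AlgEquiv.injective _)
  refine IsReduced.tensorProduct_of_flat_of_forall_fg fun D hD => ?_
  haveI : Algebra.FiniteType κ D := (Subalgebra.fg_iff_finiteType D).mp hD
  haveI : Algebra.IsIntegral κ D := ⟨fun x => (isIntegral_algHom_iff D.val Subtype.val_injective).mp
    (Algebra.IsIntegral.isIntegral (x : Ω))⟩
  haveI : Module.Finite κ D := Algebra.IsIntegral.finite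
  letI : Field D := (isField_of_isIntegral_of_isField' (Field.toIsField κ) : IsField D).toField
  haveI : IsReduced (D ⊗[κ] p.Fiber B) := isReduced_ofLocalizationMaximal _ fun Q _ =>
    allLoc_fibre goodProp_reduced A B hres hB p D inferInstance Q
  exact isReduced_of_injective (Algebra.TensorProduct.comm κ (p.Fiber B) D) (AlgEquiv.injective _)

theorem cm_of_closedGeom (hres : Module.Finite A (ResidueField B))
    (hB : ClosedGeom (fun R [CommRing R] => LocCoh.IsCohenMacaulayLocalRing R) A B) (p : Ideal A) [p.IsPrime]
    (K : Type u) [Field K] [Algebra p.ResidueField K] (hK : Module.Finite p.ResidueField K) :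
    LocCoh.IsCohenMacaulayRing (K ⊗[p.ResidueField] p.Fiber B) :=
  haveI := hK
  haveI := isNoetherianRing_field_fiber A B p K
  { isCohenMacaulayLocalRing_localization := fun Q _ => allLoc_fibre goodProp_cm A B hres hB p K hK Q }

end Groth.Agent.GeomLocLib
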