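import Groth.Agent.RegHomLib.Local
import Groth.Agent.RegLocal.Basic

/-!
# Local properties, geometrically, at the closed fibre
-/

set_option autoImplicit false
set_option backward.isDefEq.respectTransparency false
set_option maxHeartbeats 1000000
universe u

open IsLocalRing TensorProduct

namespace Groth.Agent.GeomLocLib

/-- All local rings satisfy `P`. -/
def AllLoc (P : ∀ (R : Type u) [CommRing R], Prop) (R : Type u) [CommRing R] : Prop :=
  ∀ (Q : Ideal R) [Q.IsPrime], P (Localization.AtPrime Q)

/-- A property of local rings stable under generization and ascending along flat maps from regular rings with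
good closed fibre. -/
structure GoodProp (P : ∀ (R : Type u) [CommRing R], Prop) : Prop where
  iso : ∀ {A B : Type u} [CommRing A] [CommRing B], (A ≃+* B) → P A → P B
  loc : ∀ {B : Type u} [CommRing B] [IsLocalRing B] [IsNoetherianRing B] (q : Ideal B) [q.IsPrime],
    P B → P (Localization.AtPrime q)
  asc : ∀ (A B : Type u) [CommRing A] [CommRing B] [IsRegularLocalRing A] [IsLocalRing B] [IsNoetherianRing B]
    [Algebra A B] [IsLocalHom (algebraMap A B)] [Module.Flat A B],
    P (B ⧸ (maximalIdeal A).map (algebraMap A B)) → P B

/-- Finite field extensions of the residue field keep all local rings of the closed fibre good. -/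
def ClosedGeom (P : ∀ (R : Type u) [CommRing R], Prop) (A B : Type u) [CommRing A] [CommRing B] [Algebra A B] :
    Prop :=
  ∀ (k' : Type u) [Field k'] [Algebra A k'], Module.Finite A k' → AllLoc P (k' ⊗[A] B)

variable {P : ∀ (R : Type u) [CommRing R], Prop}

theorem allLoc_of_isLocalization (hP : GoodProp P) {R S : Type u} [CommRing R] [CommRing S] [Algebra R S]
    (M : Submonoid R) [IsLocalization M S] (h : AllLoc P R) : AllLoc P S := by
  intro Q _
  let p : Ideal R := Q.under R
  haveI : IsLocalization.AtPrime (Localization.AtPrime Q) p :=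
    IsLocalization.isLocalization_isLocalization_atPrime_isLocalization M (Localization.AtPrime Q) Q
  exact hP.iso (IsLocalization.algEquiv p.primeCompl (Localization.AtPrime p) (Localization.AtPrime Q)).toRingEquiv (h p)

theorem allLoc_of_ringEquiv (hP : GoodProp P) {R S : Type u} [CommRing R] [CommRing S] (e : R ≃+* S)
    (h : AllLoc P R) : AllLoc P S := by
  letI : Algebra R S := (e : R →+* S).toAlgebra
  haveI : IsLocalization (⊥ : Submonoid R) S :=
    { map_units := fun ⟨y, hy⟩ => by
        rw [Submonoid.mem_bot] at hy
        subst hy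
        simp
      surj := fun z => ⟨(e.symm z, 1), by
        show z * algebraMap R S 1 = e (e.symm z)
        rw [map_one, mul_one, e.apply_symm_apply]⟩
      exists_of_eq := fun {x y} hxy => ⟨1, by rw [e.injective hxy]⟩ }
  exact allLoc_of_isLocalization hP ⊥ h

theorem of_allLoc (hP : GoodProp P) {R : Type u} [CommRing R] [IsLocalRing R] (h : AllLoc P R) : P R :=
  hP.iso (IsLocalization.atUnits R (maximalIdeal R).primeCompl
    (fun _ hx => IsLocalRing.notMem_maximalIdeal.1 hx) :
      R ≃ₐ[R] Localization.AtPrime (maximalIdeal R)).symm.toRingEquiv (h (maximalIdeal R))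

/-- The closed fibre itself is good. -/
theorem ClosedGeom.closedFibre (hP : GoodProp P) {A B : Type u} [CommRing A] [CommRing B] [IsLocalRing A]
    [IsLocalRing B] [IsNoetherianRing B] [Algebra A B] [IsLocalHom (algebraMap A B)] (h : ClosedGeom P A B) :
    P (B ⧸ (maximalIdeal A).map (algebraMap A B)) := by
  haveI : Module.Finite A (ResidueField A) := Module.Finite.of_surjective (Algebra.linearMap A (ResidueField A))
    (by exact residue_surjective)
  have hne : (maximalIdeal A).map (algebraMap A B) ≠ ⊤ := fun h =>
    (maximalIdeal.isMaximal B).ne_top (top_le_iff.1 (h ▸ ((local_hom_TFAE (algebraMap A B)).out 0 2 rfl rfl).mp inferInstance))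
  haveI : IsLocalRing (B ⧸ (maximalIdeal A).map (algebraMap A B)) := RegLocal.isLocalRing_quot hne
  refine of_allLoc hP (allLoc_of_ringEquiv hP ?_ (h (ResidueField A) inferInstance))
  exact (Algebra.TensorProduct.comm A (A ⧸ maximalIdeal A) B).toRingEquiv.trans
    (Algebra.TensorProduct.quotIdealMapEquivTensorQuot B (maximalIdeal A)).symm.toRingEquiv

/-- A generic point of a finite base change. -/
theorem point_of_finite (hP : GoodProp P) (A B A'' : Type u) [CommRing A] [IsLocalRing A] [CommRing B]
    [IsLocalRing B] [IsNoetherianRing B] [Algebra A B] [IsLocalHom (algebraMap A B)] [Module.Flat A B]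
    (hres : Module.Finite A (ResidueField B)) (hB : ClosedGeom P A B)
    [CommRing A''] [IsLocalRing A''] [IsDomain A''] [Algebra A A''] [Module.Finite A A'']
    (IH : ∀ (C : Type u) [CommRing C] [IsLocalRing C] [IsNoetherianRing C] [Algebra A'' C]
      [IsLocalHom (algebraMap A'' C)] [Module.Flat A'' C], Module.Finite A'' (ResidueField C) → ClosedGeom P A'' C →
        ∀ (q : Ideal C) [q.IsPrime], q.comap (algebraMap A'' C) = ⊥ → P (Localization.AtPrime q))
    (q' : Ideal (A'' ⊗[A] B)) [q'.IsPrime] (hq' : q'.comap (algebraMap A'' (A'' ⊗[A] B)) = ⊥) :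
    P (Localization.AtPrime q') := by
  let T := A'' ⊗[A] B
  letI : Algebra B T := Algebra.TensorProduct.rightAlgebra
  haveI : Module.Finite B T := Module.Finite.equiv (Algebra.TensorProduct.commRight A B A'').toLinearEquiv
  haveI : IsNoetherianRing T := IsNoetherianRing.of_finite B T
  obtain ⟨n, hn, hqn⟩ := Ideal.exists_le_maximal q' (Ideal.IsPrime.ne_top inferInstance)
  haveI := hn
  haveI : Algebra.IsIntegral B T := Algebra.IsIntegral.of_finite B T
  have hnB : n.comap (algebraMap B T) = maximalIdeal B :=
    IsLocalRing.eq_maximalIdeal (Ideal.isMaximal_comap_of_isIntegral_of_isMaximal n)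
  have hnA'' : n.comap (algebraMap A'' T) = maximalIdeal A'' := by
    haveI : Algebra.IsIntegral A A'' := Algebra.IsIntegral.of_finite A A''
    refine IsLocalRing.eq_maximalIdeal (Ideal.isMaximal_of_isIntegral_of_isMaximal_comap (R := A) _ ?_)
    have h1 : (n.comap (algebraMap A'' T)).comap (algebraMap A A'') = maximalIdeal A := by
      rw [Ideal.comap_comap, ← IsScalarTower.algebraMap_eq, IsScalarTower.algebraMap_eq A B T, ← Ideal.comap_comap, hnB]
      exact ((local_hom_TFAE (algebraMap A B)).out 0 4 rfl rfl).mp inferInstance
    rw [h1]; exact maximalIdeal.isMaximal A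
  let C := Localization.AtPrime n
  haveI : IsNoetherianRing C := IsLocalization.isNoetherianRing n.primeCompl _ inferInstance
  haveI : Module.Flat A'' T := inferInstance
  haveI : Module.Flat T C := IsLocalization.flat C n.primeCompl
  haveI : Module.Flat A'' C := Module.Flat.trans A'' T C
  haveI : IsLocalHom (algebraMap A'' C) := ⟨fun a ha => by
    by_contra h
    have h1 : algebraMap A'' T a ∈ n := by
      rw [← Ideal.mem_comap, hnA'']; exact h
    rw [IsScalarTower.algebraMap_apply A'' T C] at ha
    exact (IsLocalization.AtPrime.isUnit_to_map_iff C n _).1 ha h1⟩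
  haveI : IsScalarTower B T C := inferInstance
  haveI : IsScalarTower A B C := IsScalarTower.of_algebraMap_eq fun a => by
    rw [IsScalarTower.algebraMap_apply B T C, ← IsScalarTower.algebraMap_apply A B T,
      IsScalarTower.algebraMap_apply A T C]
  haveI : IsLocalHom (algebraMap B C) := ⟨fun b hb => by
    by_contra h
    have h1 : algebraMap B T b ∈ n := by
      rw [← Ideal.mem_comap, hnB]; exact h
    exact (IsLocalization.AtPrime.isUnit_to_map_iff C n _).1 hb h1⟩
  have hsurj : Function.Surjective (algebraMap T (ResidueField C)) := fun z => by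
    obtain ⟨z, rfl⟩ := residue_surjective z
    obtain ⟨t, s, rfl⟩ := IsLocalization.exists_mk'_eq n.primeCompl z
    letI : Field (T ⧸ n) := Ideal.Quotient.field n
    obtain ⟨v, hv⟩ := Ideal.Quotient.mk_surjective ((Ideal.Quotient.mk n (s : T))⁻¹)
    refine ⟨t * v, ?_⟩
    rw [IsScalarTower.algebraMap_apply T C (ResidueField C), ResidueField.algebraMap_eq, ← sub_eq_zero, ← map_sub,
      residue_eq_zero_iff]
    have hu : IsUnit (algebraMap T C s) := IsLocalization.map_units C s
    refine (Ideal.unit_mul_mem_iff_mem _ hu).1 ?_
    rw [mul_sub, IsLocalization.mk'_spec'_mk (S := C), ← map_mul, ← map_sub]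
    refine (IsLocalization.AtPrime.to_map_mem_maximal_iff C n _).2 ?_
    have hs : Ideal.Quotient.mk n (s : T) ≠ 0 := fun h => s.2 (Ideal.Quotient.eq_zero_iff_mem.1 h)
    rw [← Ideal.Quotient.eq_zero_iff_mem, map_sub, map_mul, map_mul, hv]
    field_simp
    ring
  haveI : Module.Finite B (ResidueField C) := Module.Finite.of_surjective
    (IsScalarTower.toAlgHom B T (ResidueField C)).toLinearMap hsurj
  haveI := hres
  haveI : Module.Finite (ResidueField B) (ResidueField C) := Module.Finite.of_restrictScalars_finite B _ _
  haveI : IsScalarTower A (ResidueField B) (ResidueField C) := IsScalarTower.of_algebraMap_eq fun a => by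
    rw [IsScalarTower.algebraMap_apply A B (ResidueField B), ← IsScalarTower.algebraMap_apply B (ResidueField B),
      ← IsScalarTower.algebraMap_apply A B (ResidueField C)]
  haveI : Module.Finite A (ResidueField C) := Module.Finite.trans (ResidueField B) (ResidueField C)
  haveI : IsScalarTower A A'' C := inferInstance
  have hCres : Module.Finite A'' (ResidueField C) := Module.Finite.of_restrictScalars_finite A _ _
  have hCgeom : ClosedGeom P A'' C := by
    intro k' _ _ hfin
    haveI := hfin
    letI : Algebra A k' := ((algebraMap A'' k').comp (algebraMap A A'')).toAlgebra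
    haveI : IsScalarTower A A'' k' := IsScalarTower.of_algebraMap_eq fun _ => rfl
    haveI : Module.Finite A k' := Module.Finite.trans A'' k'
    have h1 : AllLoc P (k' ⊗[A''] T) :=
      allLoc_of_ringEquiv hP (Algebra.TensorProduct.cancelBaseChange A A'' k' k' B).toRingEquiv.symm (hB k' inferInstance)
    letI : Algebra T (k' ⊗[A''] T) := Algebra.TensorProduct.rightAlgebra
    letI : Algebra (k' ⊗[A''] T) (k' ⊗[A''] C) :=
      (Algebra.TensorProduct.map (AlgHom.id A'' k') (IsScalarTower.toAlgHom A'' T C)).toRingHom.toAlgebra
    haveI := RegHomLib.isLocalization_tensor A'' k' T C n.primeCompl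
    exact allLoc_of_isLocalization hP (Algebra.algebraMapSubmonoid (k' ⊗[A''] T) n.primeCompl) h1
  have hdisj : Disjoint (n.primeCompl : Set T) (q' : Set T) := Set.disjoint_left.2 fun x hx hxq => hx (hqn hxq)
  let Q := q'.map (algebraMap T C)
  haveI : Q.IsPrime := IsLocalization.isPrime_of_isPrime_disjoint n.primeCompl C q' inferInstance hdisj
  have hQ : Q.comap (algebraMap T C) = q' := IsLocalization.under_map_of_isPrime_disjoint n.primeCompl C inferInstance hdisj
  have hQbot : Q.comap (algebraMap A'' C) = ⊥ := by
    rw [IsScalarTower.algebraMap_eq A'' T C, ← Ideal.comap_comap, hQ, hq']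
  have hfinal := IH C hCres hCgeom Q hQbot
  haveI : IsLocalization.AtPrime (Localization.AtPrime Q) q' := by
    have h := IsLocalization.isLocalization_isLocalization_atPrime_isLocalization n.primeCompl (Localization.AtPrime Q) Q
    exact (show ∀ (I : Ideal T) (_ : I.IsPrime), q' = I → IsLocalization.AtPrime (Localization.AtPrime Q) I →
      IsLocalization.AtPrime (Localization.AtPrime Q) q' from fun I _ e h => by subst e; exact h) _ inferInstance hQ.symm h
  exact hP.iso (IsLocalization.algEquiv q'.primeCompl (Localization.AtPrime Q) (Localization.AtPrime q')).toRingEquiv hfinal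

end Groth.Agent.GeomLocLib
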