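import Groth.Agent.GeomLocLib.Main
import Groth.Agent.RegDesc.FormalFibres

/-!
# All fibres of a flat map of complete local rings
-/

set_option autoImplicit false
set_option backward.isDefEq.respectTransparency false
set_option maxHeartbeats 1000000
universe u

open IsLocalRing TensorProduct

namespace Groth.Agent.GeomLocLib

variable {P : ∀ (R : Type u) [CommRing R], Prop}

/-- The residue field of the target is finite over the source. -/
theorem finite_residueField (A B : Type u) [CommRing A] [CommRing B] [IsLocalRing A] [IsLocalRing B] [Algebra A B]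
    [IsLocalHom (algebraMap A B)] [Module.Finite (ResidueField A) (ResidueField B)] :
    Module.Finite A (ResidueField B) := by
  haveI : Module.Finite A (ResidueField A) := Module.Finite.of_surjective (Algebra.linearMap A (ResidueField A))
    (by exact residue_surjective)
  haveI : IsScalarTower A (ResidueField A) (ResidueField B) := IsScalarTower.of_algebraMap_eq fun _ => rfl
  exact Module.Finite.trans (ResidueField A) (ResidueField B)

/-- Geometric properties of the closed fibre. -/
theorem closedGeom_of_fibre (hP : GoodProp P) (A B : Type u) [CommRing A] [IsLocalRing A] [CommRing B] [Algebra A B]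
    (h : ∀ (k' : Type u) [Field k'] [Algebra (maximalIdeal A).ResidueField k'],
      Module.Finite (maximalIdeal A).ResidueField k' →
        AllLoc P (k' ⊗[(maximalIdeal A).ResidueField] (maximalIdeal A).Fiber B)) : ClosedGeom P A B := by
  intro k' _ _ hfin
  haveI := hfin
  let m := maximalIdeal A
  let p := RingHom.ker (algebraMap A k')
  have hker : p = m := by
    haveI : p.IsPrime := RingHom.ker_isPrime _
    haveI : Algebra.IsIntegral A k' := Algebra.IsIntegral.of_finite A k'
    haveI : (⊥ : Ideal k').IsMaximal := Ideal.bot_isMaximal
    have h1 : ((⊥ : Ideal k').comap (algebraMap A k')).IsMaximal :=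
      Ideal.isMaximal_comap_of_isIntegral_of_isMaximal ⊥
    rw [← RingHom.ker_eq_comap_bot] at h1
    exact IsLocalRing.eq_maximalIdeal h1
  letI : Algebra m.ResidueField k' := (Ideal.ResidueField.lift m (algebraMap A k') hker.ge (fun a ha => by
    refine isUnit_iff_ne_zero.2 fun h0 => ha ?_
    show a ∈ m
    rw [← hker]
    exact RingHom.mem_ker.2 h0)).toAlgebra
  haveI : IsScalarTower A m.ResidueField k' := IsScalarTower.of_algebraMap_eq fun r =>
    (Ideal.ResidueField.lift_algebraMap m (algebraMap A k') _ _ r).symm
  haveI : Module.Finite m.ResidueField k' := Module.Finite.of_restrictScalars_finite A _ _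
  exact allLoc_of_ringEquiv hP (Algebra.TensorProduct.cancelBaseChange A m.ResidueField k' k' B).toRingEquiv
    (h k' inferInstance)

/-- **The localization theorem** for a flat map from a complete local ring with finite residue extension. -/
theorem allLoc_fibre (hP : GoodProp P) (A B : Type u) [CommRing A] [IsLocalRing A] [IsNoetherianRing A]
    [IsAdicComplete (maximalIdeal A) A] [CommRing B] [IsLocalRing B] [IsNoetherianRing B] [Algebra A B]
    [IsLocalHom (algebraMap A B)] [Module.Flat A B] (hres : Module.Finite A (ResidueField B)) (hB : ClosedGeom P A B)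
    (p : Ideal A) [p.IsPrime] (K : Type u) [Field K] [Algebra p.ResidueField K] (hK : Module.Finite p.ResidueField K) :
    AllLoc P (K ⊗[p.ResidueField] p.Fiber B) := by
  haveI := hK
  letI : Algebra A K := ((algebraMap p.ResidueField K).comp (algebraMap A p.ResidueField)).toAlgebra
  haveI : IsScalarTower A p.ResidueField K := IsScalarTower.of_algebraMap_eq fun _ => rfl
  refine allLoc_of_ringEquiv hP (Algebra.TensorProduct.cancelBaseChange A p.ResidueField K K B).toRingEquiv.symm ?_
  obtain ⟨A', hA', hfr⟩ := RegDesc.exists_finite_subalgebra A p K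
  haveI := hA'
  haveI := hfr
  haveI : HenselianLocalRing A := Hensel.henselianRing_maximalIdeal_iff.1 inferInstance
  haveI : IsLocalRing A' := NormalTensor.isLocalRing_of_finite_domain A A'
  haveI : IsNoetherianRing A' := IsNoetherianRing.of_finite A A'
  haveI := FiniteCompleteLib.isAdicComplete_maximalIdeal A A'
  obtain ⟨d, hd⟩ := RegLocal.exists_nat_ringKrullDim A'
  refine allLoc_of_ringEquiv hP (Algebra.TensorProduct.cancelBaseChange A A' K K B).toRingEquiv ?_
  intro Q _
  let T := A' ⊗[A] B
  letI : Algebra T (K ⊗[A'] T) := Algebra.TensorProduct.rightAlgebra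
  let M := Algebra.algebraMapSubmonoid T (nonZeroDivisors A')
  haveI : IsLocalization M (K ⊗[A'] T) := inferInstance
  let q' := Q.comap (algebraMap T (K ⊗[A'] T))
  have hq' : q'.comap (algebraMap A' T) = ⊥ := by
    rw [eq_bot_iff]
    intro x hx
    by_contra hne
    exact Set.disjoint_left.1 ((IsLocalization.isPrime_iff_isPrime_disjoint M (K ⊗[A'] T) Q).1 inferInstance).2
      ⟨x, mem_nonZeroDivisors_of_ne_zero hne, rfl⟩ hx
  have h := point_of_finite hP A B A' hres hB
    (fun C _ _ _ _ _ _ hC hC' Q' _ hQ' => generic_point hP d A' hd.le C hC hC' Q' hQ') q' hq'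
  haveI := IsLocalization.isLocalization_isLocalization_atPrime_isLocalization M (Localization.AtPrime Q) Q
  exact hP.iso (IsLocalization.algEquiv q'.primeCompl (Localization.AtPrime q') (Localization.AtPrime Q)).toRingEquiv h

end Groth.Agent.GeomLocLib
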