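import Groth.Agent.GeomLocLib.Basic
import Groth.Agent.J2CompleteLib.Local
import Groth.Agent.NagataCompleteLib.Complete
import Groth.Agent.NormalTensor.Henselian
import Groth.Agent.S9622

/-!
# Localization theorem for geometric properties (finite residue extension)
-/

set_option autoImplicit false
set_option backward.isDefEq.respectTransparency false
set_option maxHeartbeats 1000000
universe u

open IsLocalRing TensorProduct

namespace Groth.Agent.GeomLocLib

variable {P : ∀ (R : Type u) [CommRing R], Prop}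

/-- The local ring at a point over the generic point does not see a birational extension of the base. -/
theorem exists_birational_point (A B A' : Type u) [CommRing A] [IsDomain A] [CommRing B] [Algebra A B] [CommRing A']
    [Algebra A A'] [Algebra A' (FractionRing A)] [IsScalarTower A A' (FractionRing A)]
    (hinj : Function.Injective (algebraMap A' (FractionRing A))) (q : Ideal B) [q.IsPrime]
    (hq : q.comap (algebraMap A B) = ⊥) :
    ∃ (q' : Ideal (A' ⊗[A] B)) (_ : q'.IsPrime), q'.comap (algebraMap A' (A' ⊗[A] B)) = ⊥ ∧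
      Nonempty (Localization.AtPrime q' ≃+* Localization.AtPrime q) := by
  let K := FractionRing A
  let L := Localization.AtPrime q
  let T := A' ⊗[A] B
  have hunit : ∀ y : nonZeroDivisors A, IsUnit (algebraMap A L y) := fun y => by
    rw [IsScalarTower.algebraMap_apply A B L]
    exact IsLocalization.map_units L (⟨algebraMap A B y, fun h => nonZeroDivisors.ne_zero y.2
      (by rw [← Ideal.mem_bot, ← hq]; exact h)⟩ : q.primeCompl)
  let g : K →+* L := IsLocalization.lift hunit
  let g' : A' →ₐ[A] L :=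
    { g.comp (algebraMap A' K) with
      commutes' := fun a => by
        show g (algebraMap A' K (algebraMap A A' a)) = algebraMap A L a
        rw [← IsScalarTower.algebraMap_apply A A' K]
        exact IsLocalization.lift_eq hunit a }
  let ψ : T →ₐ[A] L := Algebra.TensorProduct.lift g' (IsScalarTower.toAlgHom A B L) fun _ _ => Commute.all _ _
  have hψb : ∀ b : B, ψ ((1 : A') ⊗ₜ[A] b) = algebraMap B L b := fun b => by
    show Algebra.TensorProduct.lift g' (IsScalarTower.toAlgHom A B L) _ ((1 : A') ⊗ₜ[A] b) = _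
    rw [Algebra.TensorProduct.lift_tmul, map_one, one_mul]; rfl
  let q' : Ideal T := (maximalIdeal L).comap ψ.toRingHom
  haveI : q'.IsPrime := Ideal.IsPrime.comap _
  have hq'bot : q'.comap (algebraMap A' T) = ⊥ := by
    rw [eq_bot_iff]
    intro a ha
    rw [Ideal.mem_bot]
    by_contra ha0
    have h1 : algebraMap A' K a ≠ 0 := fun h => ha0 (hinj (h.trans (map_zero _).symm))
    have h2 : IsUnit (ψ (a ⊗ₜ[A] (1 : B))) := by
      show IsUnit (Algebra.TensorProduct.lift g' (IsScalarTower.toAlgHom A B L) _ (a ⊗ₜ[A] (1 : B)))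
      rw [Algebra.TensorProduct.lift_tmul, map_one, mul_one]
      exact (isUnit_iff_ne_zero.2 h1).map g
    exact h2 |> fun hu => (mem_maximalIdeal _).1 ha hu
  refine ⟨q', inferInstance, hq'bot, ?_⟩
  have hmem : ∀ b : B, (1 : A') ⊗ₜ[A] b ∈ q' ↔ b ∈ q := fun b => by
    show ψ ((1 : A') ⊗ₜ[A] b) ∈ maximalIdeal L ↔ _
    rw [hψb]
    exact IsLocalization.AtPrime.to_map_mem_maximal_iff L q b
  have hclear : ∀ t : T, ∃ (a : A) (b : B), a ≠ 0 ∧ a • t = (1 : A') ⊗ₜ[A] b := by
    intro t
    induction t using TensorProduct.induction_on with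
    | zero => exact ⟨1, 0, one_ne_zero, by simp⟩
    | tmul x b =>
      obtain ⟨c, d, hd, hcd⟩ := IsFractionRing.div_surjective (A := A) (algebraMap A' K x)
      have hd0 : algebraMap A K d ≠ 0 := IsFractionRing.to_map_ne_zero_of_mem_nonZeroDivisors hd
      have hx : d • x = algebraMap A A' c := hinj (by
        rw [Algebra.smul_def, map_mul, ← IsScalarTower.algebraMap_apply, ← IsScalarTower.algebraMap_apply, ← hcd,
          mul_div_cancel₀ _ hd0])
      refine ⟨d, c • b, nonZeroDivisors.ne_zero hd, ?_⟩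
      rw [TensorProduct.smul_tmul', hx, Algebra.algebraMap_eq_smul_one, TensorProduct.smul_tmul]
    | add s t hs ht =>
      obtain ⟨a, b, ha, hab⟩ := hs
      obtain ⟨c, d, hc, hcd⟩ := ht
      refine ⟨a * c, c • b + a • d, mul_ne_zero ha hc, ?_⟩
      rw [smul_add, mul_smul, mul_smul, hcd, smul_comm a c s, hab, TensorProduct.tmul_add, TensorProduct.tmul_smul,
        TensorProduct.tmul_smul]
  letI : Algebra T L := ψ.toRingHom.toAlgebra
  haveI : IsLocalization.AtPrime L q' :=
    { map_units := fun y => by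
        by_contra hy
        exact y.2 ((mem_maximalIdeal _).2 hy)
      surj := fun z => by
        obtain ⟨b, s, rfl⟩ := IsLocalization.exists_mk'_eq q.primeCompl z
        refine ⟨((1 : A') ⊗ₜ[A] b, ⟨(1 : A') ⊗ₜ[A] (s : B), fun h => s.2 ((hmem s).1 h)⟩), ?_⟩
        show IsLocalization.mk' L b s * ψ ((1 : A') ⊗ₜ[A] (s : B)) = ψ ((1 : A') ⊗ₜ[A] b)
        rw [hψb, hψb, IsLocalization.mk'_spec]
      exists_of_eq := fun {x y} hxy => by
        obtain ⟨a, b, ha, hab⟩ := hclear (x - y)
        have h0 : ψ (x - y) = 0 := by rw [map_sub, sub_eq_zero]; exact hxy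
        have hb : algebraMap B L b = 0 := by rw [← hψb, ← hab, map_smul, h0, smul_zero]
        obtain ⟨⟨s, hs⟩, hsb⟩ := (IsLocalization.map_eq_zero_iff q.primeCompl L b).1 hb
        refine ⟨⟨algebraMap A T a * ((1 : A') ⊗ₜ[A] s), fun h => ?_⟩, ?_⟩
        · rcases Ideal.IsPrime.mem_or_mem inferInstance h with h | h
          · refine ha ?_
            have h2 : algebraMap A B a ∈ q := by
              rw [← hmem, Algebra.algebraMap_eq_smul_one, TensorProduct.tmul_smul]
              rwa [Algebra.algebraMap_eq_smul_one] at h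
            rw [← Ideal.mem_bot, ← hq]; exact h2
          · exact hs ((hmem s).1 h)
        · show algebraMap A T a * ((1 : A') ⊗ₜ[A] s) * x = algebraMap A T a * ((1 : A') ⊗ₜ[A] s) * y
          rw [← sub_eq_zero, ← mul_sub, mul_right_comm, ← Algebra.smul_def, hab, Algebra.TensorProduct.tmul_mul_tmul,
            one_mul, mul_comm b s, hsb, TensorProduct.tmul_zero] }
  exact ⟨(IsLocalization.algEquiv q'.primeCompl (Localization.AtPrime q') L).toRingEquiv⟩

/-- A local domain with a nonzero element in all nonzero primes has only two primes. -/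
theorem eq_maximalIdeal_of_forall_mem {C : Type u} [CommRing C] [IsDomain C] [IsLocalRing C] [IsNoetherianRing C]
    {s : C} (hs0 : s ≠ 0) (hs : ∀ (p : Ideal C) [p.IsPrime], p ≠ ⊥ → s ∈ p) (p : Ideal C) [p.IsPrime] (hp : p ≠ ⊥) :
    p = maximalIdeal C := by
  classical
  by_contra hne
  have hlt : p < maximalIdeal C := lt_of_le_of_ne (le_maximalIdeal (Ideal.IsPrime.ne_top inferInstance)) hne
  let S := (Ideal.span {s}).minimalPrimes
  have hfin : S.Finite := Ideal.finite_minimalPrimes_of_isNoetherianRing C _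
  have hnm : maximalIdeal C ∉ S := fun h => hlt.not_ge (h.2 ⟨inferInstance, by
    rw [Ideal.span_le, Set.singleton_subset_iff]; exact hs p hp⟩ hlt.le)
  have hnsub : ¬((maximalIdeal C : Set C) ⊆ ⋃ r ∈ S, (r : Set C)) := fun h => by
    obtain ⟨r, hr, hle⟩ := (Ideal.subset_union_prime_finite hfin (f := id) ⊥ ⊥ (fun r hr _ _ => hr.1.1)).1 h
    exact hnm ((le_antisymm (le_maximalIdeal hr.1.1.ne_top) hle) ▸ hr)
  obtain ⟨x, hxm, hx⟩ := Set.not_subset.1 hnsub
  obtain ⟨r, hr, -⟩ := Ideal.exists_minimalPrimes_le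
    (show Ideal.span {x} ≤ maximalIdeal C by rw [Ideal.span_le, Set.singleton_subset_iff]; exact hxm)
  haveI := hr.1.1
  have hxr : x ∈ r := hr.1.2 (Ideal.mem_span_singleton_self x)
  have hx0 : x ≠ 0 := fun h => by
    obtain ⟨r', hr', -⟩ := Ideal.exists_minimalPrimes_le
      (show Ideal.span {s} ≤ maximalIdeal C by
        rw [Ideal.span_le, Set.singleton_subset_iff]; exact hlt.le (hs p hp))
    exact hx (Set.mem_biUnion hr' (h ▸ zero_mem r'))
  have hr0 : r ≠ ⊥ := fun h => hx0 (by rw [← Ideal.mem_bot, ← h]; exact hxr)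
  obtain ⟨r', hr', hr'le⟩ := Ideal.exists_minimalPrimes_le
    (show Ideal.span {s} ≤ r by rw [Ideal.span_le, Set.singleton_subset_iff]; exact hs r hr0)
  haveI := hr'.1.1
  have hr'0 : r' ≠ ⊥ := fun h => hs0 (by rw [← Ideal.mem_bot, ← h]; exact hr'.1.2 (Ideal.mem_span_singleton_self s))
  rcases hr'le.lt_or_eq with hlt' | heq
  · have h1 : r.height ≤ 1 := Ideal.height_le_one_of_isPrincipal_of_mem_minimalPrimes _ _ hr
    have h2 : (⊥ : Ideal C) < r' := bot_lt_iff_ne_bot.2 hr'0
    haveI := Ideal.isPrime_bot (α := C)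
    have h3 : (⊥ : Ideal C).height + 1 + 1 ≤ r.height :=
      (add_le_add_left (Ideal.height_add_one_le_of_lt_of_isPrime h2) 1).trans (Ideal.height_add_one_le_of_lt_of_isPrime hlt')
    rw [Ideal.height_bot, zero_add] at h3
    exact absurd (h3.trans h1) (by decide)
  · exact hx (Set.mem_biUnion hr' (heq ▸ hxr))

/-- A local domain over a complete ring with finite residue field and no intermediate primes is finite. -/
theorem finite_of_two_primes (A C : Type u) [CommRing A] [IsLocalRing A] [IsNoetherianRing A]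
    [IsAdicComplete (maximalIdeal A) A] [CommRing C] [IsDomain C] [IsLocalRing C] [IsNoetherianRing C] [Algebra A C]
    [IsLocalHom (algebraMap A C)] (hres : Module.Finite A (ResidueField C))
    (hne : (maximalIdeal A).map (algebraMap A C) ≠ ⊥)
    (h2 : ∀ (p : Ideal C) [p.IsPrime], p ≠ ⊥ → p = maximalIdeal C) : Module.Finite A C := by
  classical
  let J := (maximalIdeal A).map (algebraMap A C)
  have hJ : J ≤ maximalIdeal C := ((local_hom_TFAE (algebraMap A C)).out 0 2 rfl rfl).mp inferInstance
  have htop : J ≠ ⊤ := fun h => (maximalIdeal.isMaximal C).ne_top (top_le_iff.1 (h ▸ hJ))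
  haveI : IsLocalRing (C ⧸ J) := RegLocal.isLocalRing_quot htop
  haveI : IsArtinianRing (C ⧸ J) := by
    rw [isArtinianRing_iff_krullDimLE_zero, Ring.krullDimLE_zero_iff]
    intro p hp
    have hle : J ≤ p.comap (Ideal.Quotient.mk J) := fun x hx => by
      rw [Ideal.mem_comap, Ideal.Quotient.eq_zero_iff_mem.2 hx]; exact zero_mem _
    have h := h2 (p.comap (Ideal.Quotient.mk J)) fun h0 => hne (le_bot_iff.1 (h0 ▸ hle))
    rw [← Ideal.map_comap_of_surjective _ Ideal.Quotient.mk_surjective p, h]
    refine Or.resolve_left (Ideal.map_eq_top_or_isMaximal_of_surjective _ Ideal.Quotient.mk_surjective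
      (maximalIdeal.isMaximal C)) fun ht => hp.ne_top ?_
    rw [← Ideal.map_comap_of_surjective _ Ideal.Quotient.mk_surjective p, h, ht]
  haveI : Module.Finite A (C ⧸ maximalIdeal C) := hres
  haveI : Module.Finite A (C ⧸ J) := S9622.result.1.2 (by
    let g : C →ₐ[A] (C ⧸ J) ⧸ maximalIdeal (C ⧸ J) :=
      (Ideal.Quotient.mkₐ A (maximalIdeal (C ⧸ J))).comp (Ideal.Quotient.mkₐ A J)
    have hg : Function.Surjective g := (Ideal.Quotient.mkₐ_surjective A _).comp (Ideal.Quotient.mkₐ_surjective A _)
    exact Module.Finite.of_surjective (Ideal.Quotient.liftₐ (maximalIdeal C) g fun x hx => by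
      refine Ideal.Quotient.eq_zero_iff_mem.2 ?_
      haveI : IsLocalHom (Ideal.Quotient.mk J) := Ideal.Quotient.mk_surjective.isLocalHom _
      exact map_nonunit (Ideal.Quotient.mk J) x hx).toLinearMap fun z => by
        obtain ⟨x, rfl⟩ := hg z
        exact ⟨Ideal.Quotient.mk _ x, rfl⟩)
  obtain ⟨N, v, hv⟩ := Submodule.fg_iff_exists_fin_generating_family.1 (Module.Finite.fg_top : (⊤ : Submodule A (C ⧸ J)).FG)
  choose w hw using fun i => Ideal.Quotient.mk_surjective (v i)
  let f : (Fin N → A) →ₗ[A] C := Fintype.linearCombination A w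
  haveI := FiniteCompleteLib.isAdicComplete_of_finite (maximalIdeal A) (Fin N → A)
  haveI : IsHausdorff J C := IsHausdorff.of_isLocalRing (I := J) (M := C) htop
  haveI : IsHausdorff (maximalIdeal A) C := IsHausdorff.map_algebraMap_iff.1 ‹_›
  refine Module.Finite.of_surjective f (surjective_of_mkQ_comp_surjective (I := maximalIdeal A) ?_)
  intro z
  obtain ⟨c, rfl⟩ := Submodule.Quotient.mk_surjective _ z
  have hmem : (Ideal.Quotient.mk J c) ∈ Submodule.span A (Set.range v) := by rw [hv]; trivial
  obtain ⟨r, hr⟩ := (Submodule.mem_span_range_iff_exists_fun A).1 hmem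
  refine ⟨r, ?_⟩
  rw [LinearMap.comp_apply, Submodule.mkQ_apply, Submodule.Quotient.eq, Ideal.smul_top_eq_map,
    Submodule.restrictScalars_mem]
  show f r - c ∈ J
  have hfr : Ideal.Quotient.mk J (f r) = ∑ i, r i • v i := by
    rw [show f r = ∑ i, r i • w i from Fintype.linearCombination_apply A w r, map_sum]
    exact Finset.sum_congr rfl fun i _ => by rw [← hw i]; rfl
  rw [← Ideal.Quotient.eq, hfr, hr]

/-- The base case: dimension at most one. -/
theorem generic_point_dim_one (hP : GoodProp P) (A : Type u) [CommRing A] [IsDomain A] [IsLocalRing A]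
    [IsNoetherianRing A] [IsAdicComplete (maximalIdeal A) A] (hnf : ¬ IsField A) [Ring.KrullDimLE 1 A]
    (B : Type u) [CommRing B] [IsLocalRing B] [IsNoetherianRing B] [Algebra A B] [IsLocalHom (algebraMap A B)]
    [Module.Flat A B] (hres : Module.Finite A (ResidueField B)) (hB : ClosedGeom P A B) (q : Ideal B) [q.IsPrime]
    (hq : q.comap (algebraMap A B) = ⊥) : P (Localization.AtPrime q) := by
  let K := FractionRing A
  let A' := integralClosure A K
  haveI : Module.Finite A A' := NagataCompleteLib.isN2_complete A K inferInstance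
  haveI : HenselianLocalRing A := Hensel.henselianRing_maximalIdeal_iff.1 inferInstance
  haveI : IsLocalRing A' := NormalTensor.isLocalRing_of_finite_domain A A'
  haveI : IsNoetherianRing A' := IsNoetherianRing.of_finite A A'
  haveI : IsFractionRing A' K := integralClosure.isFractionRing_of_finite_extension K K
  haveI : IsIntegrallyClosed A' := integralClosure.isIntegrallyClosedOfFiniteExtension K
  haveI : Algebra.IsIntegral A A' := Algebra.IsIntegral.of_finite A A'
  have hinjA : Function.Injective (algebraMap A A') := fun a b h => IsFractionRing.injective A K (congrArg Subtype.val h)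
  have hmax : ∀ (p : Ideal A') [p.IsPrime], p ≠ ⊥ → p = maximalIdeal A' := fun p _ hp => by
    haveI : FaithfulSMul A A' := (faithfulSMul_iff_algebraMap_injective _ _).2 hinjA
    have h1 : p.comap (algebraMap A A') ≠ ⊥ := fun h => hp (Ideal.eq_bot_of_comap_eq_bot h)
    have h2 : (p.comap (algebraMap A A')).IsMaximal :=
      Ring.krullDimLE_one_iff_of_noZeroDivisors.1 inferInstance _ h1 inferInstance
    exact IsLocalRing.eq_maximalIdeal (Ideal.isMaximal_of_isIntegral_of_isMaximal_comap (R := A) p h2)
  have hnf' : ¬ IsField A' := fun h => hnf (isField_of_isIntegral_of_isField hinjA h)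
  haveI : IsDiscreteValuationRing A' := ((IsDiscreteValuationRing.TFAE A' hnf').out 3 0 rfl rfl).1
    ⟨inferInstance, maximalIdeal A', ⟨fun h => hnf' (IsLocalRing.isField_iff_maximalIdeal_eq.2 h), inferInstance⟩,
      fun p ⟨hp, hp'⟩ => haveI := hp'; hmax p hp⟩
  haveI : IsRegularRing A' := inferInstance
  haveI : IsRegularLocalRing A' := IsRegularLocalRing.of_isRegularRing_of_isLocalRing _
  obtain ⟨q', _, hq', ⟨e⟩⟩ := exists_birational_point A B A' (IsFractionRing.injective A' K) q hq
  refine hP.iso e (point_of_finite hP A B A' hres hB (fun C _ _ _ _ _ _ _ hC Q _ _ => ?_) q' hq')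
  exact hP.loc Q (hP.asc A' C (hC.closedFibre hP))

/-- **The localization theorem**: the generic fibre. -/
theorem generic_point (hP : GoodProp P) : ∀ (d : ℕ) (A : Type u) [CommRing A] [IsDomain A] [IsLocalRing A]
    [IsNoetherianRing A] [IsAdicComplete (maximalIdeal A) A], ringKrullDim A ≤ d →
    ∀ (B : Type u) [CommRing B] [IsLocalRing B] [IsNoetherianRing B] [Algebra A B] [IsLocalHom (algebraMap A B)]
      [Module.Flat A B], Module.Finite A (ResidueField B) → ClosedGeom P A B →
      ∀ (q : Ideal B) [q.IsPrime], q.comap (algebraMap A B) = ⊥ → P (Localization.AtPrime q) := by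
  intro d
  induction d using Nat.strong_induction_on with
  | _ d IH => ?_
  intro A _ _ _ _ _ hd B _ _ _ _ _ _ hres hB q _ hq
  by_cases hf : IsField A
  · letI := hf.toField
    haveI : IsRegularLocalRing A := IsRegularLocalRing.of_isRegularRing_of_isLocalRing _
    exact hP.loc q (hP.asc A B (hB.closedFibre hP))
  by_cases h1 : Ring.KrullDimLE 1 A
  · exact generic_point_dim_one hP A hf B hres hB q hq
  classical
  haveI := Ideal.isPrime_bot (α := A)
  -- the regular locus contains a basic open set
  obtain ⟨s, hs0, hs⟩ : ∃ s : A, s ≠ 0 ∧ ∀ (p : Ideal A) [p.IsPrime], s ∉ p → IsRegularLocalRing (Localization.AtPrime p) := by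
    have hopen : IsOpen (EGA4.regLocus A) := J2CompleteLib.isJ2_complete A A inferInstance
    have hmem : (⟨⊥, inferInstance⟩ : PrimeSpectrum A) ∈ EGA4.regLocus A := by
      show IsRegularLocalRing (Localization.AtPrime (⊥ : Ideal A))
      haveI : IsFractionRing A (Localization.AtPrime (⊥ : Ideal A)) := by
        show IsLocalization (nonZeroDivisors A) _
        rw [← Ideal.primeCompl_bot]; infer_instance
      letI := IsFractionRing.toField (K := Localization.AtPrime (⊥ : Ideal A)) A
      exact IsRegularLocalRing.of_isRegularRing_of_isLocalRing _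
    obtain ⟨_, ⟨s, rfl⟩, hbot, hsub⟩ := PrimeSpectrum.isTopologicalBasis_basic_opens.exists_subset_of_mem_open hmem hopen
    exact ⟨s, fun h => hbot (h.symm ▸ zero_mem _), fun p hp hsp => hsub (show (⟨p, hp⟩ : PrimeSpectrum A) ∈ _ from hsp)⟩
  -- a specialization of `q` over a nonzero prime avoiding `s`
  obtain ⟨Q, hQ, hqQ, hsQ, hQ0⟩ : ∃ (Q : Ideal B) (_ : Q.IsPrime), q ≤ Q ∧ algebraMap A B s ∉ Q ∧
      Q.comap (algebraMap A B) ≠ ⊥ := by
    by_contra hcon
    push Not at hcon
    obtain ⟨n, ⟨hn, hqn, hsn⟩, hnmax⟩ := set_has_maximal_iff_noetherian.2 (inferInstanceAs (IsNoetherian B B))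
      {I : Ideal B | I.IsPrime ∧ q ≤ I ∧ algebraMap A B s ∉ I}
      ⟨q, inferInstance, le_rfl, fun h => hs0 (by rw [← Ideal.mem_bot, ← hq]; exact h)⟩
    haveI := hn
    have hnA : Ideal.comap (algebraMap A B) n = ⊥ := hcon n hn hqn hsn
    let C := B ⧸ n
    haveI : IsLocalRing C := IsLocalRing.of_surjective' (Ideal.Quotient.mk n) Ideal.Quotient.mk_surjective
    haveI : IsLocalHom (Ideal.Quotient.mk n) := Ideal.Quotient.mk_surjective.isLocalHom _
    haveI : IsLocalHom (algebraMap A C) := ⟨fun a ha =>
      isUnit_of_map_unit (algebraMap A B) a (isUnit_of_map_unit (Ideal.Quotient.mk n) _ ha)⟩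
    have hinj : Function.Injective (algebraMap A C) := by
      rw [injective_iff_map_eq_zero]
      intro a ha
      rw [← Ideal.mem_bot, ← hnA, Ideal.mem_comap]
      exact Ideal.Quotient.eq_zero_iff_mem.1 ha
    have hsC : algebraMap A C s ≠ 0 := fun h => hs0 (hinj (h.trans (map_zero _).symm))
    have hall : ∀ (p : Ideal C) [p.IsPrime], p ≠ ⊥ → algebraMap A C s ∈ p := fun p hp hp0 => by
      by_contra hsp
      have hle : n ≤ p.comap (Ideal.Quotient.mk n) := fun x hx => by
        rw [Ideal.mem_comap, Ideal.Quotient.eq_zero_iff_mem.2 hx]; exact zero_mem _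
      refine hnmax (p.comap (Ideal.Quotient.mk n)) ⟨inferInstance, hqn.trans hle, hsp⟩ (hle.lt_of_ne fun h => hp0 ?_)
      rw [← Ideal.map_comap_of_surjective _ Ideal.Quotient.mk_surjective p, ← h, Ideal.map_quotient_self]
    have h2 := fun (p : Ideal C) [p.IsPrime] hp => eq_maximalIdeal_of_forall_mem hsC hall p hp
    haveI : Module.Finite A (ResidueField C) := by
      haveI := hres
      refine Module.Finite.of_surjective (R := A) (M := ResidueField B)
        (Ideal.Quotient.liftₐ (maximalIdeal B) ((IsScalarTower.toAlgHom A C (ResidueField C)).comp (Ideal.Quotient.mkₐ A n))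
          fun x hx => (residue_eq_zero_iff _).2 (map_nonunit (Ideal.Quotient.mk n) x hx)).toLinearMap fun z => ?_
      obtain ⟨c, rfl⟩ := residue_surjective z
      obtain ⟨b, rfl⟩ := Ideal.Quotient.mk_surjective c
      exact ⟨residue B b, rfl⟩
    have hne : (maximalIdeal A).map (algebraMap A C) ≠ ⊥ := fun h => hf (by
      rw [Ideal.map_eq_bot_iff_of_injective hinj] at h
      exact IsLocalRing.isField_iff_maximalIdeal_eq.2 h)
    haveI := finite_of_two_primes A C inferInstance hne h2
    haveI : Algebra.IsIntegral A C := Algebra.IsIntegral.of_finite A C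
    haveI : FaithfulSMul A C := (faithfulSMul_iff_algebraMap_injective _ _).2 hinj
    refine h1 (Ring.krullDimLE_one_iff_of_noZeroDivisors.2 fun p hp0 hp => ?_)
    obtain ⟨P', -, hP', hP'p⟩ := Ideal.exists_ideal_over_prime_of_isIntegral p (⊥ : Ideal C) (by
      rw [← RingHom.ker_eq_comap_bot, (RingHom.injective_iff_ker_eq_bot _).1 hinj]; exact bot_le)
    haveI := hP'
    have hP'0 : P' ≠ ⊥ := fun h => hp0 (by
      rw [← hP'p, h, ← RingHom.ker_eq_comap_bot, (RingHom.injective_iff_ker_eq_bot _).1 hinj])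
    rw [← hP'p]
    haveI : P'.IsMaximal := (h2 P' hP'0) ▸ maximalIdeal.isMaximal C
    exact Ideal.isMaximal_comap_of_isIntegral_of_isMaximal P'
  haveI := hQ
  let p := Q.comap (algebraMap A B)
  haveI : IsRegularLocalRing (Localization.AtPrime p) := hs p hsQ
  -- induction on `A ⧸ p`
  haveI : IsLocalRing (A ⧸ p) := IsLocalRing.of_surjective' (Ideal.Quotient.mk p) Ideal.Quotient.mk_surjective
  haveI := FiniteCompleteLib.isAdicComplete_maximalIdeal A (A ⧸ p)
  obtain ⟨e, he⟩ : ∃ e : ℕ, ringKrullDim (A ⧸ p) = e := RegLocal.exists_nat_ringKrullDim _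
  have hed : e < d := by
    obtain ⟨x, hxp, hx0⟩ := Submodule.exists_mem_ne_zero_of_ne_bot hQ0
    have h3 := ringKrullDim_quotient_succ_le_of_nonZeroDivisor (mem_nonZeroDivisors_of_ne_zero hx0)
    have h4 := ringKrullDim_le_of_surjective (Ideal.Quotient.factor (S := Ideal.span {x}) (T := p)
      ((Ideal.span_singleton_le_iff_mem p).2 hxp)) (Ideal.Quotient.factor_surjective _)
    rw [he] at h4
    have h5 : (e : WithBot ℕ∞) + 1 ≤ (d : WithBot ℕ∞) := ((add_le_add_left h4 1).trans h3).trans hd
    have h6 : ((e + 1 : ℕ) : WithBot ℕ∞) ≤ ((d : ℕ) : WithBot ℕ∞) := by exact_mod_cast h5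
    have h7 : e + 1 ≤ d := by exact_mod_cast h6
    omega
  let T := (A ⧸ p) ⊗[A] B
  let ε : T ≃ₐ[A] B ⧸ p.map (algebraMap A B) := (Algebra.TensorProduct.comm A (A ⧸ p) B).trans
    ((Algebra.TensorProduct.quotIdealMapEquivTensorQuot B p).symm.restrictScalars A)
  let Qb := Q.map (Ideal.Quotient.mk (p.map (algebraMap A B)))
  have hpQ : p.map (algebraMap A B) ≤ Q := Ideal.map_le_iff_le_comap.2 le_rfl
  haveI : Qb.IsPrime := Ideal.map_isPrime_of_surjective Ideal.Quotient.mk_surjective (by rwa [Ideal.mk_ker])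
  let q' : Ideal T := Qb.comap ε.toAlgHom.toRingHom
  haveI : q'.IsPrime := Ideal.IsPrime.comap _
  have hQb : Qb.comap (Ideal.Quotient.mk (p.map (algebraMap A B))) = Q := by
    rw [Ideal.comap_map_of_surjective _ Ideal.Quotient.mk_surjective, ← RingHom.ker_eq_comap_bot, Ideal.mk_ker,
      sup_eq_left.2 hpQ]
  have hq'bot : q'.comap (algebraMap (A ⧸ p) T) = ⊥ := by
    rw [eq_bot_iff]
    intro a ha
    obtain ⟨a, rfl⟩ := Ideal.Quotient.mk_surjective a
    have h4 : ε (algebraMap A T a) ∈ Qb := by
      rw [IsScalarTower.algebraMap_apply A (A ⧸ p) T]; exact ha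
    rw [ε.commutes, IsScalarTower.algebraMap_apply A B (B ⧸ p.map (algebraMap A B))] at h4
    rw [Ideal.mem_bot, Ideal.Quotient.eq_zero_iff_mem]
    show algebraMap A B a ∈ Q
    rw [← hQb]; exact h4
  have hTq : P (Localization.AtPrime q') := point_of_finite hP A B (A ⧸ p) hres hB
    (fun C _ _ _ _ _ _ hC hC' Q' _ hQ' => IH e hed (A ⧸ p) he.le C hC hC' Q' hQ') q' hq'bot
  -- the local ring at `Q`
  let Bq := Localization.AtPrime Q
  haveI : Q.LiesOver p := ⟨rfl⟩
  letI : Algebra (Localization.AtPrime p) Bq := Localization.AtPrime.algebraOfLiesOver p Q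
  haveI : IsLocalHom (algebraMap (Localization.AtPrime p) Bq) :=
    Localization.isLocalHom_localRingHom p Q (algebraMap A B) (Ideal.over_def Q p)
  haveI : IsNoetherianRing Bq := IsLocalization.isNoetherianRing Q.primeCompl _ inferInstance
  haveI : Module.Flat (Localization.AtPrime p) Bq := inferInstance
  have hBQ : P Bq := by
    refine hP.asc (Localization.AtPrime p) Bq ?_
    let Ib := p.map (algebraMap A B)
    have hmap : Ib.map (algebraMap B Bq) =
        (maximalIdeal (Localization.AtPrime p)).map (algebraMap (Localization.AtPrime p) Bq) := by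
      rw [← Localization.AtPrime.map_eq_maximalIdeal, Ideal.map_map, Ideal.map_map, ← IsScalarTower.algebraMap_eq,
        ← IsScalarTower.algebraMap_eq]
    have hM : Algebra.algebraMapSubmonoid (B ⧸ Ib) Q.primeCompl = Qb.primeCompl := by
      ext y
      constructor
      · rintro ⟨b, hb, rfl⟩ hmem
        exact hb (hQb ▸ hmem)
      · intro hy
        obtain ⟨b, rfl⟩ := Ideal.Quotient.mk_surjective y
        exact ⟨b, fun hb => hy (Ideal.mem_map_of_mem _ hb), rfl⟩
    haveI : IsLocalization.AtPrime (Bq ⧸ Ib.map (algebraMap B Bq)) Qb := by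
      show IsLocalization Qb.primeCompl _
      rw [← hM]; infer_instance
    refine hP.iso ((IsLocalization.ringEquivOfRingEquiv (Localization.AtPrime q') (Bq ⧸ Ib.map (algebraMap B Bq))
      (M := q'.primeCompl) (T := Qb.primeCompl) ε.toRingEquiv ?_).trans (Ideal.quotEquivOfEq hmap)) hTq
    ext y
    simp only [Submonoid.mem_map, Ideal.mem_primeCompl_iff]
    exact ⟨fun ⟨x, hx, hxy⟩ => hxy ▸ hx, fun hy => ⟨ε.symm y, fun h => hy (by
      have h5 : ε (ε.symm y) ∈ Qb := h
      rwa [ε.apply_symm_apply] at h5), ε.apply_symm_apply y⟩⟩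
  have hdisj : Disjoint (Q.primeCompl : Set B) (q : Set B) := Set.disjoint_left.2 fun x hx hxq => hx (hqQ hxq)
  let q₁ := q.map (algebraMap B Bq)
  haveI : q₁.IsPrime := IsLocalization.isPrime_of_isPrime_disjoint Q.primeCompl Bq q inferInstance hdisj
  have hq₁ : q₁.comap (algebraMap B Bq) = q := IsLocalization.under_map_of_isPrime_disjoint Q.primeCompl Bq inferInstance hdisj
  haveI : IsLocalization.AtPrime (Localization.AtPrime q₁) q :=
    (show ∀ (I : Ideal B) (_ : I.IsPrime), q = I → IsLocalization.AtPrime (Localization.AtPrime q₁) I →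
      IsLocalization.AtPrime (Localization.AtPrime q₁) q from fun I _ e h => by subst e; exact h) _ inferInstance hq₁.symm
      (IsLocalization.isLocalization_isLocalization_atPrime_isLocalization Q.primeCompl (Localization.AtPrime q₁) q₁)
  exact hP.iso (IsLocalization.algEquiv q.primeCompl (Localization.AtPrime q₁) (Localization.AtPrime q)).toRingEquiv
    (hP.loc q₁ hBQ)

end Groth.Agent.GeomLocLib
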