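import Groth.Agent.GeomLocLib.Fibres
import Groth.Agent.FlatDepth.Fibres
import Groth.Agent.NormalQuotLib.Basic
import Groth.Agent.RatliffLib.Equidim

/-!
# The basic local properties
-/

set_option autoImplicit false
set_option backward.isDefEq.respectTransparency false
set_option maxHeartbeats 1000000
universe u

open IsLocalRing

namespace Groth.Agent.GeomLocLib

/-- A property lifting from a quotient by a regular element ascends along flat maps from regular local rings. -/
theorem asc_of_lift {P : ∀ (R : Type u) [CommRing R], Prop}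
    (hiso : ∀ {A B : Type u} [CommRing A] [CommRing B], (A ≃+* B) → P A → P B)
    (hlift : ∀ (B : Type u) [CommRing B] [IsLocalRing B] [IsNoetherianRing B] (t : B), t ∈ maximalIdeal B →
      t ∈ nonZeroDivisors B → P (B ⧸ Ideal.span {t}) → P B) :
    ∀ (d : ℕ) (A B : Type u) [CommRing A] [CommRing B] [IsRegularLocalRing A] [IsLocalRing B] [IsNoetherianRing B]
      [Algebra A B] [IsLocalHom (algebraMap A B)] [Module.Flat A B], ringKrullDim A = d →
      P (B ⧸ (maximalIdeal A).map (algebraMap A B)) → P B := by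
  intro d
  induction d using Nat.strong_induction_on with
  | _ d ih => ?_
  intro A B _ _ _ _ _ _ _ _ hd h
  haveI : IsDomain A := RegLocal.isDomain A
  by_cases hm : maximalIdeal A = ⊥
  · exact hiso ((Ideal.quotEquivOfEq (by rw [hm, Ideal.map_bot])).trans (RingEquiv.quotientBot B)) h
  obtain ⟨t, htm, ht2⟩ : ∃ t ∈ maximalIdeal A, t ∉ maximalIdeal A ^ 2 := by
    by_contra hcon
    push Not at hcon
    exact hm (Submodule.eq_bot_of_le_smul_of_le_jacobson_bot _ _ (maximalIdeal A).fg_of_isNoetherianRing
      (show maximalIdeal A ≤ maximalIdeal A • maximalIdeal A by rw [smul_eq_mul, ← sq]; exact hcon)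
      (maximalIdeal_le_jacobson _))
  obtain ⟨hreg, hd1, hdim⟩ := RegLocal.quot_singleton A hd htm ht2
  haveI := hreg
  let I : Ideal A := Ideal.span {t}
  have ht0 : t ≠ 0 := fun h => ht2 (h ▸ zero_mem _)
  have htB : algebraMap A B t ∈ maximalIdeal B :=
    ((local_hom_TFAE (algebraMap A B)).out 0 2 rfl rfl).mp inferInstance (Ideal.mem_map_of_mem _ htm)
  have htreg : algebraMap A B t ∈ nonZeroDivisors B := by
    rw [mem_nonZeroDivisors_iff_right]
    intro x hx
    have h1 : IsSMulRegular B t := Module.Flat.isSMulRegular_of_isRegular (IsRegular.of_ne_zero ht0)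
    refine h1 (a₁ := x) (a₂ := 0) ?_
    show t • x = t • (0 : B)
    rw [smul_zero, Algebra.smul_def, mul_comm]
    exact hx
  have hIm : I ≤ maximalIdeal A := (Ideal.span_singleton_le_iff_mem _).2 htm
  have hIB : I.map (algebraMap A B) = Ideal.span {algebraMap A B t} := by rw [Ideal.map_span, Set.image_singleton]
  refine hlift B _ htB htreg (hiso (Ideal.quotEquivOfEq hIB) ?_)
  let B' := B ⧸ I.map (algebraMap A B)
  haveI : IsLocalRing B' := RegLocal.isLocalRing_quot fun h => (maximalIdeal.isMaximal B).ne_top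
    (top_le_iff.1 (h.symm.le.trans (hIB.le.trans ((Ideal.span_singleton_le_iff_mem _).2 htB))))
  haveI : IsLocalHom (Ideal.Quotient.mk (I.map (algebraMap A B))) := Ideal.Quotient.mk_surjective.isLocalHom _
  haveI : Module.Flat (A ⧸ I) B' := RatliffLib.flat_quot I
  haveI : IsLocalHom (algebraMap (A ⧸ I) B') := ⟨fun a ha => by
    obtain ⟨a, rfl⟩ := Ideal.Quotient.mk_surjective a
    have h1 : IsUnit (Ideal.Quotient.mk (I.map (algebraMap A B)) (algebraMap A B a)) := ha
    exact (isUnit_of_map_unit (algebraMap A B) a (isUnit_of_map_unit (Ideal.Quotient.mk _) _ h1)).map _⟩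
  refine ih (d - 1) (by omega) (A ⧸ I) B' hdim (hiso ?_ h)
  have hmap : (maximalIdeal (A ⧸ I)).map (algebraMap (A ⧸ I) B') =
      ((maximalIdeal A).map (algebraMap A B)).map (Ideal.Quotient.mk (I.map (algebraMap A B))) := by
    rw [RegLocal.maximalIdeal_quot (fun h => (maximalIdeal.isMaximal A).ne_top (top_le_iff.1 (h ▸ hIm))),
      Ideal.map_map, Ideal.map_map]
    rfl
  exact (Ideal.quotEquivOfEq (sup_eq_right.2 (Ideal.map_mono hIm))).symm.trans
    ((DoubleQuot.quotQuotEquivQuotSup _ _).symm.trans (Ideal.quotEquivOfEq hmap.symm))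

theorem goodProp_regular : GoodProp (fun R [CommRing R] => IsRegularLocalRing R) where
  iso e h := haveI := h; IsRegularLocalRing.of_ringEquiv e
  loc q _ h := haveI := h; RegLocal.isRegularLocalRing_localization _ q
  asc A B _ _ _ _ _ _ _ _ h := haveI := h; RegHomLib.isRegularLocalRing_of_fibre A B

theorem goodProp_cm : GoodProp (fun R [CommRing R] => LocCoh.IsCohenMacaulayLocalRing R) where
  iso e h := haveI := h; CMCat.isCohenMacaulayLocalRing_of_ringEquiv e
  loc {B} _ _ _ q _ h := by
    haveI := h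
    haveI := CMCat.isCohenMacaulayRing_of_local (R := B)
    exact LocCoh.IsCohenMacaulayRing.isCohenMacaulayLocalRing_localization q
  asc A B _ _ _ _ _ _ _ _ h := (FlatDepth.cm_ascend_descend A B).2 ⟨RatliffLib.cm_of_regularLocal A, h⟩

theorem isReduced_of_quot (B : Type u) [CommRing B] [IsLocalRing B] [IsNoetherianRing B] (t : B)
    (ht : t ∈ maximalIdeal B) (hreg : t ∈ nonZeroDivisors B) (h : IsReduced (B ⧸ Ideal.span {t})) : IsReduced B := by
  haveI := h
  have key : ∀ (k : ℕ) (x : B), IsNilpotent x → x ∈ Ideal.span {t} ^ k := by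
    intro k
    induction k with
    | zero => intro x _; rw [pow_zero, Ideal.one_eq_top]; trivial
    | succ k ih =>
      intro x hx
      obtain ⟨y, rfl⟩ : t ∣ x := Ideal.mem_span_singleton.1
        (Ideal.Quotient.eq_zero_iff_mem.1 (hx.map (Ideal.Quotient.mk (Ideal.span {t}))).eq_zero)
      obtain ⟨n, hn⟩ := hx
      rw [pow_succ']
      refine Ideal.mul_mem_mul (Ideal.mem_span_singleton_self t) (ih y ⟨n, ?_⟩)
      rw [mul_pow, mul_comm] at hn
      exact (mul_right_mem_nonZeroDivisors_eq_zero_iff (pow_mem hreg n)).1 hn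
  refine ⟨fun x hx => ?_⟩
  have hne : Ideal.span {t} ≠ ⊤ := fun h => (maximalIdeal.isMaximal B).ne_top
    (top_le_iff.1 (h.symm.le.trans ((Ideal.span_singleton_le_iff_mem _).2 ht)))
  rw [← Ideal.mem_bot, ← Ideal.iInf_pow_eq_bot_of_isLocalRing _ hne, Ideal.mem_iInf]
  exact fun k => key k x hx

theorem goodProp_reduced : GoodProp (fun R [CommRing R] => IsReduced R) where
  iso e h := haveI := h; isReduced_of_injective e.symm e.symm.injective
  loc q _ h := haveI := h; inferInstance
  asc A B _ _ _ _ _ _ _ _ h := by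
    obtain ⟨d, hd⟩ := RegLocal.exists_nat_ringKrullDim A
    refine asc_of_lift (P := fun R [CommRing R] => IsReduced R)
      (fun e h => haveI := h; isReduced_of_injective e.symm e.symm.injective) isReduced_of_quot d A B hd h

theorem goodProp_normal : GoodProp (fun R [CommRing R] => IsDomain R ∧ IsIntegrallyClosed R) where
  iso e h := ⟨haveI := h.1; e.symm.toMulEquiv.isDomain _, haveI := h.1; haveI := h.2; IsIntegrallyClosed.of_equiv e⟩
  loc {B} _ _ _ q _ h := by
    haveI := h.1
    haveI := h.2
    exact ⟨IsLocalization.isDomain_of_le_nonZeroDivisors _ q.primeCompl_le_nonZeroDivisors,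
      isIntegrallyClosed_of_isLocalization _ q.primeCompl q.primeCompl_le_nonZeroDivisors⟩
  asc A B _ _ _ _ _ _ _ _ h := by
    obtain ⟨d, hd⟩ := RegLocal.exists_nat_ringKrullDim A
    refine asc_of_lift (P := fun R [CommRing R] => IsDomain R ∧ IsIntegrallyClosed R)
      (fun e h => ⟨haveI := h.1; e.symm.toMulEquiv.isDomain _,
        haveI := h.1; haveI := h.2; IsIntegrallyClosed.of_equiv e⟩) ?_ d A B hd h
    intro C _ _ _ t ht hreg hC
    haveI := hC.1
    haveI := hC.2
    haveI := NormalQuotLib.isDomain_of_quot ht hreg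
    exact ⟨this, NormalQuotLib.isIntegrallyClosed_of_quot ht (nonZeroDivisors.ne_zero hreg)⟩

end Groth.Agent.GeomLocLib
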